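import Cfsg.Agent.H145.BR.Defs
import Cfsg.Agent.OddRank.SzTits
import Cfsg.Agent.S1156

/-!
# S4891: the rows `sz`, `ree` (helper315)

For odd `p` the Sylow `p`-subgroups of `Sz(q)` are cyclic, for `p > 3` those of `²G₂(q)` are cyclic: the rows are vacuous.
-/

set_option autoImplicit false

namespace Cfsg.Agent.H315.RatB0

open Cfsg Cfsg.Agent.H145.BR

theorem row_sz {p : ℕ} [Fact p.Prime] (hp : p ≠ 2) : RowForT p (fun X _ => Lie.IsoSuzuki X) := by
  intro X _ _ _ _ _ hc hX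
  exact absurd (OddRank.SzTits.isCyclic_of_isPGroup hX hp _ (default : Sylow p X).isPGroup') (hc default)

theorem isCyclic_ree {G : Type*} [Group G] [Finite G] (h : Lie.IsoRee G) {p : ℕ} [hp : Fact p.Prime] (h3 : 3 < p)
    (P : Subgroup G) (hP : IsPGroup p P) : IsCyclic P := by
  obtain ⟨K, _, _, m, hm, hK, ⟨f⟩⟩ := h
  have : Finite ↥(Cfsg.Lie.twistedG2 K (3 ^ m)) := Finite.of_equiv _ f.toEquiv
  obtain ⟨S, hS⟩ := (hP.map (f : G →* ↥(Cfsg.Lie.twistedG2 K (3 ^ m)))).exists_le_sylow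
  have := Cfsg.Agent.S1156.result hm hK h3 S
  have h1 : IsCyclic ↥(P.map (f : G →* ↥(Cfsg.Lie.twistedG2 K (3 ^ m)))) :=
    isCyclic_of_injective (Subgroup.inclusion hS) (Subgroup.inclusion_injective hS)
  exact isCyclic_of_surjective (f.subgroupMap P).symm (f.subgroupMap P).symm.surjective

theorem row_ree {p : ℕ} [hp : Fact p.Prime] (hp2 : p ≠ 2) (hp3 : p ≠ 3) : RowForT p (fun X _ => Lie.IsoRee X) := by
  intro X _ _ _ _ _ hc hX
  have h3 : 3 < p := by
    have := hp.out.two_le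
    omega
  exact absurd (isCyclic_ree hX h3 _ (default : Sylow p X).isPGroup') (hc default)

end Cfsg.Agent.H315.RatB0
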